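import Cfsg.Agent.Lib.SmallCodes.Monomial
import Mathlib.GroupTheory.SpecificGroups.Alternating

/-!
The monomial automorphisms of the hexacode.
-/

set_option autoImplicit false
set_option maxRecDepth 20000

namespace CfsgLib.SmallCodes.Hexa

open Cfsg CfsgLib.SmallCodes

/-- addition table of the field of order four -/
def addT (a b : Fin 4) : Fin 4 :=
  (![![0, 1, 2, 3], ![1, 0, 3, 2], ![2, 3, 0, 1], ![3, 2, 1, 0]] : Fin 4 → Fin 4 → Fin 4) a b

/-- multiplication table of the field of order four -/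
def mulT (a b : Fin 4) : Fin 4 :=
  (![![0, 0, 0, 0], ![0, 1, 2, 3], ![0, 2, 3, 1], ![0, 3, 1, 2]] : Fin 4 → Fin 4 → Fin 4) a b

/-- the three spanning words -/
def gen : Fin 3 → Fin 6 → Fin 4 := ![![2, 3, 3, 2, 3, 2], ![3, 2, 2, 3, 3, 2], ![3, 2, 3, 2, 2, 3]]

/-- combinations of the spanning words -/
def comb (a b c : Fin 4) (i : Fin 6) : Fin 4 :=
  addT (addT (mulT a (gen 0 i)) (mulT b (gen 1 i))) (mulT c (gen 2 i))

/-- decidable membership -/
def inB (y : Fin 6 → Fin 4) : Bool :=
  decide (∀ i, comb (addT (mulT (y 0) 2) (mulT (y 1) 3))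
    (addT (addT (mulT (y 0) 3) (mulT (y 1) 3)) (y 2)) (addT (y 1) (y 2)) i = y i)

theorem inB_comb : ∀ a b c : Fin 4, inB (comb a b c) = true := by decide +kernel

/-- nonzero elements -/
def nz (u : Fin 3) : Fin 4 := u.succ

/-- the monomial image of a spanning word -/
def img (g : Fin 6 → Fin 6) (u : Fin 6 → Fin 3) (k : Fin 3) (i : Fin 6) : Fin 4 :=
  mulT (nz (u i)) (gen k (g i))

/-- digits to base three -/
def dig (n : ℕ) (i : Fin 6) : Fin 3 := ⟨n / 3 ^ i.val % 3, Nat.mod_lt _ (by norm_num)⟩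

/-- witnesses for the three-cycles -/
def wit : List ℕ :=
  [0, 0, 0, 0, 0, 0, 0, 0, 161, 202, 45, 63, 0, 202, 0, 161, 140, 146, 0, 161, 202, 0, 178, 226, 0, 63, 132, 210, 0, 45, 0, 45, 106, 194, 63, 0, 0, 0, 202, 161, 63, 45, 0, 0, 0, 0, 0, 0, 161, 0, 0, 202, 194, 210, 202, 0, 161, 0, 106, 132, 45, 0, 226, 146, 0, 63, 63, 0, 178, 140, 45, 0, 0, 161, 0, 202, 132, 106, 202, 0, 0, 161, 226, 178, 0, 0, 0, 0, 0, 0, 161, 202, 0, 0, 5, 7, 140, 194, 0, 7, 0, 5, 146, 210, 0, 5, 7, 0, 0, 202, 161, 0, 210, 194, 161, 0, 202, 0, 146, 140, 202, 161, 0, 0, 7, 5, 0, 0, 0, 0, 0, 0, 178, 106, 5, 0, 0, 7, 226, 132, 7, 0, 5, 0, 0, 45, 140, 178, 0, 63, 63, 0, 194, 106, 0, 45, 132, 226, 0, 5, 0, 7, 210, 146, 7, 0, 0, 5, 0, 0, 0, 0, 0, 0, 45, 63, 5, 7, 0, 0, 0, 63, 146, 226, 45, 0, 45, 0, 210, 132, 63, 0, 106, 178, 0, 7, 5, 0, 194, 140, 5, 0, 7, 0, 63, 45, 7, 5, 0, 0, 0, 0, 0, 0, 0, 0]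

theorem wit_check : ∀ i j k : Fin 6, i ≠ j → j ≠ k → i ≠ k →
    ∀ t, inB (img (fun p => Equiv.swap j k (Equiv.swap i j p))
      (dig (wit.getD (36 * i.val + 6 * j.val + k.val) 0)) t) = true := by decide +kernel

theorem swap_check : ∀ a b c d e f : Fin 3,
    ∃ t, inB (img (fun p => Equiv.swap (0 : Fin 6) 1 p) ![a, b, c, d, e, f] t) = false := by
  decide +kernel

theorem one_check : ∀ a b c d e f : Fin 3,
    (∀ t, inB (img (fun p => p) ![a, b, c, d, e, f] t) = true) →
      b = a ∧ c = a ∧ d = a ∧ e = a ∧ f = a := by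
  decide +kernel

theorem vec6_eta (u : Fin 6 → Fin 3) : u = ![u 0, u 1, u 2, u 3, u 4, u 5] := by
  funext i
  fin_cases i <;> rfl

section
variable {F : Type*} [Field F] (ω : F)

/-- the elements of the field -/
def phi : Fin 4 → F := ![0, 1, ω, ω + 1]

variable [Fintype F] (hF : Fintype.card F = 4) {ω} (hω : ω ^ 2 + ω + 1 = 0)

include hF in
theorem two_eq_zero : (2 : F) = 0 := by
  have h4 : ((4 : ℕ) : F) = 0 := hF ▸ Nat.cast_card_eq_zero F
  have h22 : (2 : F) * 2 = 0 := by
    rw [← h4]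
    norm_num
  exact (mul_eq_zero.1 h22).elim id id

include hF hω in
theorem sq_eq : ω ^ 2 = ω + 1 := by
  linear_combination hω - (ω + 1) * two_eq_zero hF

include hF in
theorem phi_add : ∀ a b, phi ω (addT a b) = phi ω a + phi ω b := by
  have h2 := two_eq_zero hF
  intro a b
  fin_cases a <;> fin_cases b <;> simp [phi, addT] <;>
    first
    | ring1
    | linear_combination -h2
    | linear_combination h2
    | linear_combination -ω * h2
    | linear_combination ω * h2
    | linear_combination -(ω + 1) * h2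
    | linear_combination (ω + 1) * h2

include hF hω in
theorem phi_mul : ∀ a b, phi ω (mulT a b) = phi ω a * phi ω b := by
  have h2 := two_eq_zero hF
  intro a b
  fin_cases a <;> fin_cases b <;> simp [phi, mulT] <;>
    first
    | ring1
    | linear_combination -hω + (ω + 1) * h2
    | linear_combination hω - (ω + 1) * h2
    | linear_combination -hω + h2
    | linear_combination -hω
    | linear_combination hω
    | linear_combination -hω - (ω + 1) * h2
    | linear_combination -hω - h2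

include hF hω in
theorem phi_injective : Function.Injective (phi ω) := by
  have h2 := two_eq_zero hF
  have h0 : ω ≠ 0 := by
    rintro rfl
    simp at hω
  have h1 : ω + 1 ≠ 0 := by
    intro h
    have : (1 : F) = 0 := by linear_combination hω - ω * h
    exact one_ne_zero this
  have h01 : ω ≠ 1 := by
    intro h
    apply h1
    linear_combination h + h2
  intro a b h
  fin_cases a <;> fin_cases b <;>
    simp [phi, h0, h0.symm, h01, h01.symm, h1, h1.symm] at h ⊢

include hF hω in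
theorem phi_surjective : Function.Surjective (phi ω) := by
  exact ((Fintype.bijective_iff_injective_and_card _).2 ⟨phi_injective hF hω, by simp [hF]⟩).2

include hF hω in
theorem mem_hexacode {x : Fin 6 → F} :
    x ∈ hexacode F ω ↔ ∃ a b c, ∀ i, phi ω (comb a b c i) = x i := by
  have hg : ∀ k i, phi ω (gen k i) =
      (![![ω, ω ^ 2, ω ^ 2, ω, ω ^ 2, ω], ![ω ^ 2, ω, ω, ω ^ 2, ω ^ 2, ω],
        ![ω ^ 2, ω, ω ^ 2, ω, ω, ω ^ 2]] : Fin 3 → Fin 6 → F) k i := by
    intro k i
    fin_cases k <;> fin_cases i <;> simp [phi, gen, sq_eq hF hω]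
  simp only [comb, phi_add hF, phi_mul hF hω, hg, Matrix.cons_val]
  rw [hexacode, Submodule.mem_span_insert]
  simp only [Submodule.mem_span_pair]
  constructor
  · rintro ⟨a, _, ⟨b, c, rfl⟩, rfl⟩
    obtain ⟨a, rfl⟩ := phi_surjective hF hω a
    obtain ⟨b, rfl⟩ := phi_surjective hF hω b
    obtain ⟨c, rfl⟩ := phi_surjective hF hω c
    exact ⟨a, b, c, fun i => by simp only [Pi.add_apply, Pi.smul_apply, smul_eq_mul, add_assoc]⟩
  · rintro ⟨a, b, c, h⟩
    exact ⟨phi ω a, _, ⟨phi ω b, phi ω c, rfl⟩, funext fun i => by simp only [← h i, Pi.add_apply, Pi.smul_apply, smul_eq_mul, add_assoc]⟩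

include hF hω in
theorem exists_digits (c : Fin 6 → Fˣ) :
    ∃ u : Fin 6 → Fin 3, ∀ i, phi ω (nz (u i)) = c i := by
  have h : ∀ i, ∃ u : Fin 3, phi ω (nz u) = c i := by
    intro i
    obtain ⟨e, he⟩ := phi_surjective hF hω (c i : F)
    obtain ⟨u, rfl⟩ := Fin.exists_succ_eq.2 (show e ≠ 0 by rintro rfl; exact (c i).ne_zero he.symm)
    exact ⟨u, he⟩
  choose u hu using h
  exact ⟨u, hu⟩

include hF hω in
theorem gen_mem (k : Fin 3) : (fun i => phi ω (gen k i)) ∈ hexacode F ω := by
  rw [mem_hexacode hF hω]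
  obtain ⟨a, b, c, h⟩ := (by decide +kernel : ∀ k, ∃ a b c, ∀ i, comb a b c i = gen k i) k
  exact ⟨a, b, c, fun i => by rw [h]⟩

include hF hω in
theorem inB_of_good {σ : Equiv.Perm (Fin 6)} {c : Fin 6 → Fˣ} (h : Good (hexacode F ω) σ c)
    {u : Fin 6 → Fin 3} (hu : ∀ i, phi ω (nz (u i)) = c i) (k : Fin 3) :
    inB (img (fun p => σ.symm p) u k) = true := by
  obtain ⟨a, b, d, e⟩ := (mem_hexacode hF hω).1 (h _ (gen_mem hF hω k))
  have : img (fun p => σ.symm p) u k = comb a b d := funext fun i => phi_injective hF hω (by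
    rw [e i, img, phi_mul hF hω, hu]
    rfl)
  rw [this]
  exact inB_comb a b d

include hF hω in
theorem good_of_inB {σ : Equiv.Perm (Fin 6)} {u : Fin 6 → Fin 3} {g : Fin 6 → Fin 6}
    (hg : ∀ p, σ.symm p = g p) (h : ∀ k, inB (img g u k) = true) :
    ∃ c, Good (hexacode F ω) σ c := by
  have hne : ∀ i, phi ω (nz (u i)) ≠ 0 := fun i h0 =>
    Fin.succ_ne_zero (u i) (phi_injective hF hω (h0.trans (by simp [phi])))
  refine ⟨fun i => Units.mk0 _ (hne i), ?_⟩
  have key : ∀ k, monomialMap σ (fun i => Units.mk0 _ (hne i)) (fun i => phi ω (gen k i)) ∈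
      hexacode F ω := by
    intro k
    have hk := h k
    simp only [inB, decide_eq_true_eq] at hk
    rw [mem_hexacode hF hω]
    exact ⟨_, _, _, fun i => by rw [hk i, img, phi_mul hF hω]; simp [monomialMap, hg]⟩
  intro x hx
  obtain ⟨a, b, c, e⟩ := (mem_hexacode hF hω).1 hx
  have hx' : x = phi ω a • (fun i => phi ω (gen 0 i)) + phi ω b • (fun i => phi ω (gen 1 i)) +
      phi ω c • (fun i => phi ω (gen 2 i)) := by
    funext i
    rw [← e i]
    simp [comb, phi_add hF, phi_mul hF hω]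
  have : monomialMap σ (fun i => Units.mk0 _ (hne i)) x =
      phi ω a • monomialMap σ (fun i => Units.mk0 _ (hne i)) (fun i => phi ω (gen 0 i)) +
      phi ω b • monomialMap σ (fun i => Units.mk0 _ (hne i)) (fun i => phi ω (gen 1 i)) +
      phi ω c • monomialMap σ (fun i => Units.mk0 _ (hne i)) (fun i => phi ω (gen 2 i)) := by
    funext i
    simp [monomialMap, hx']
    ring
  rw [this]
  exact add_mem (add_mem (Submodule.smul_mem _ _ (key 0)) (Submodule.smul_mem _ _ (key 1)))
    (Submodule.smul_mem _ _ (key 2))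

include hF hω in
theorem kernel_const (c : Fin 6 → Fˣ) (h : Good (hexacode F ω) 1 c) (i j : Fin 6) : c i = c j := by
  obtain ⟨u, hu⟩ := exists_digits hF hω c
  have hc := one_check (u 0) (u 1) (u 2) (u 3) (u 4) (u 5) fun t => by
    rw [← vec6_eta u]
    exact inB_of_good hF hω h hu t
  have : ∀ k, u k = u 0 := by
    intro k
    fin_cases k
    exacts [rfl, hc.1, hc.2.1, hc.2.2.1, hc.2.2.2.1, hc.2.2.2.2]
  exact Units.ext (by rw [← hu i, ← hu j, this i, this j])

include hF hω in
theorem cycle_mem {i j k : Fin 6} (hij : i ≠ j) (hjk : j ≠ k) :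
    Equiv.swap i j * Equiv.swap j k ∈ permPart (hexacode F ω) := by
  by_cases hik : i = k
  · subst hik
    rw [Equiv.swap_comm j i, Equiv.swap_mul_self]
    exact one_mem _
  · exact good_of_inB hF hω (fun p => rfl) (wit_check i j k hij hjk hik)

include hF hω in
theorem double_mem {a b c d : Fin 6} (hab : a ≠ b) (hcd : c ≠ d) :
    Equiv.swap a b * Equiv.swap c d ∈ permPart (hexacode F ω) := by
  by_cases hbc : b = c
  · subst hbc
    exact cycle_mem hF hω hab hcd
  · have := mul_mem (cycle_mem hF hω hab hbc) (cycle_mem hF hω hbc hcd)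
    rwa [mul_assoc, Equiv.swap_mul_self_mul] at this

include hF hω in
theorem even_mem (σ : Equiv.Perm (Fin 6)) :
    (Equiv.Perm.sign σ = 1 → σ ∈ permPart (hexacode F ω)) ∧
      (Equiv.Perm.sign σ = -1 → ∀ a b, a ≠ b → Equiv.swap a b * σ ∈ permPart (hexacode F ω)) := by
  induction σ using Equiv.Perm.swap_induction_on with
  | one => exact ⟨fun _ => one_mem _, fun h => by simp at h⟩
  | swap_mul f x y hxy ih =>
    rw [Equiv.Perm.sign_mul, Equiv.Perm.sign_swap hxy]
    constructor
    · intro h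
      refine ih.2 ?_ x y hxy
      simpa using congrArg (fun t => -t) h
    · intro h a b hab
      have hf : Equiv.Perm.sign f = 1 := by simpa using h
      rw [← mul_assoc]
      exact mul_mem (double_mem hF hω hab hxy) (ih.1 hf)

include hF hω in
theorem permPart_eq : permPart (hexacode F ω) = alternatingGroup (Fin 6) := by
  refine le_antisymm (fun σ hσ => ?_) fun σ hσ =>
    (even_mem hF hω σ).1 (Equiv.Perm.mem_alternatingGroup.1 hσ)
  rw [Equiv.Perm.mem_alternatingGroup]
  rcases Int.units_eq_one_or (Equiv.Perm.sign σ) with h | h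
  · exact h
  · exfalso
    have h01 : (0 : Fin 6) ≠ 1 := by decide
    have hs : Equiv.swap (0 : Fin 6) 1 ∈ permPart (hexacode F ω) := by
      have := (even_mem hF hω σ).2 h 0 1 h01
      simpa using mul_mem this (inv_mem hσ)
    obtain ⟨c, hc⟩ := hs
    obtain ⟨u, hu⟩ := exists_digits hF hω c
    obtain ⟨t, ht⟩ := swap_check (u 0) (u 1) (u 2) (u 3) (u 4) (u 5)
    rw [← vec6_eta u] at ht
    have := inB_of_good hF hω hc hu t
    simp [Equiv.symm_swap] at this
    simp [this] at ht

include hF hω in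
theorem automorphisms :
    Nat.card {f : Equiv.Perm (Fin 6) × (Fin 6 → Fˣ) // Good (hexacode F ω) f.1 f.2} = 1080 ∧
    (∀ c, Good (hexacode F ω) 1 c → ∀ i j, c i = c j) ∧
    {σ : Equiv.Perm (Fin 6) | ∃ c, Good (hexacode F ω) σ c} =
      (alternatingGroup (Fin 6) : Set (Equiv.Perm (Fin 6))) := by
  refine ⟨?_, kernel_const hF hω, ?_⟩
  · rw [natCard_monomial (kernel_const hF hω), permPart_eq hF hω, Nat.card_units,
      Nat.card_eq_fintype_card (α := F), hF]
    have := two_mul_nat_card_alternatingGroup (α := Fin 6)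
    rw [Nat.card_perm, Nat.card_eq_fintype_card (α := Fin 6), Fintype.card_fin] at this
    rw [show Nat.factorial 6 = 720 from rfl] at this
    omega
  · rw [← permPart_eq hF hω]
    rfl

end

end CfsgLib.SmallCodes.Hexa
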