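import Cfsg.Prelude.Def_SporadicCombinatorics

/-!
Monomial maps preserving a finite linear code: the subgroup of permutation parts, and counting.
-/

set_option autoImplicit false

namespace CfsgLib.SmallCodes

open Cfsg

variable {α F : Type*} [Field F] {C : Submodule F (α → F)}

/-- `(σ, c)` maps the code into itself. -/
def Good (C : Submodule F (α → F)) (σ : Equiv.Perm α) (c : α → Fˣ) : Prop :=
  ∀ x ∈ C, monomialMap σ c x ∈ C

theorem good_one : Good C 1 (1 : α → Fˣ) := by
  intro x hx
  convert hx using 1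
  ext i
  simp [monomialMap, Equiv.Perm.one_def]

theorem good_comp {σ τ : Equiv.Perm α} {c d : α → Fˣ} (h : Good C σ c) (h' : Good C τ d) :
    Good C (σ * τ) (fun i => c i * d (σ.symm i)) := by
  intro x hx
  convert h _ (h' x hx) using 1
  ext i
  simp [monomialMap, mul_assoc, Equiv.Perm.mul_def]

theorem good_scalar (a : Fˣ) : Good C 1 (fun _ => a) := by
  intro x hx
  convert C.smul_mem (a : F) hx using 1
  ext i
  simp [monomialMap, Equiv.Perm.one_def]

theorem good_kernel_mul {σ : Equiv.Perm α} {c d : α → Fˣ} (h : Good C σ c) (h' : Good C 1 d) :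
    Good C σ (d * c) := by
  have := good_comp h' h
  rw [one_mul] at this
  exact this

theorem monomialMap_injective (σ : Equiv.Perm α) (c : α → Fˣ) :
    Function.Injective (monomialMap σ c) := by
  intro x y h
  ext i
  have := congrFun h (σ i)
  simpa [monomialMap] using this

theorem good_div [Finite α] [Finite F] {σ : Equiv.Perm α} {c c' : α → Fˣ} (h : Good C σ c)
    (h' : Good C σ c') : Good C 1 (c' / c) := by
  intro y hy
  obtain ⟨⟨x, hx⟩, e⟩ := (Finite.injective_iff_surjective
    (f := fun x : C => (⟨monomialMap σ c x.1, h x.1 x.2⟩ : C))).1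
    (fun a b e => Subtype.ext (monomialMap_injective σ c (congrArg Subtype.val e))) ⟨y, hy⟩
  have e' : monomialMap σ c x = y := congrArg Subtype.val e
  convert h' x hx using 1
  rw [← e']
  ext i
  simp [monomialMap, Equiv.Perm.one_def, div_eq_mul_inv, mul_assoc]

/-- The permutation parts of the monomial maps preserving `C`. -/
def permPart [Finite α] (C : Submodule F (α → F)) : Subgroup (Equiv.Perm α) where
  carrier := {σ | ∃ c, Good C σ c}
  one_mem' := ⟨_, good_one⟩
  mul_mem' := fun ⟨_, h⟩ ⟨_, h'⟩ => ⟨_, good_comp h h'⟩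
  inv_mem' := by
    intro σ hσ
    have key : ∀ n : ℕ, ∃ c, Good C (σ ^ n) c := by
      intro n
      induction n with
      | zero => exact ⟨_, by rw [pow_zero]; exact good_one⟩
      | succ n ih =>
        obtain ⟨c, hc⟩ := ih
        obtain ⟨d, hd⟩ := hσ
        exact ⟨_, by rw [pow_succ]; exact good_comp hc hd⟩
    obtain ⟨n, hn⟩ := (isOfFinOrder_of_finite σ).mem_powers_iff_mem_zpowers.2
      (Subgroup.inv_mem _ (Subgroup.mem_zpowers σ))
    have := key n
    simp only at hn
    rwa [hn] at this

theorem mem_permPart [Finite α] {σ : Equiv.Perm α} : σ ∈ permPart C ↔ ∃ c, Good C σ c := Iff.rfl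

/-- If only the constant scalings preserve the code then the monomial automorphisms are counted
by the permutation parts and the scalars. -/
theorem natCard_monomial [Finite α] [Finite F] [Nonempty α]
    (hk : ∀ c : α → Fˣ, Good C 1 c → ∀ i j, c i = c j) :
    Nat.card {f : Equiv.Perm α × (α → Fˣ) // Good C f.1 f.2} =
      Nat.card (permPart C) * Nat.card Fˣ := by
  classical
  rw [← Nat.card_prod]
  have hch : ∀ σ : permPart C, ∃ c, Good C σ.1 c := fun σ => σ.2
  choose ch hch using hch
  obtain ⟨i₀⟩ := (inferInstance : Nonempty α)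
  symm
  refine Nat.card_eq_of_bijective
    (fun p : permPart C × Fˣ =>
      (⟨(p.1.1, (fun _ => p.2) * ch p.1), good_kernel_mul (hch p.1) (good_scalar p.2)⟩ :
        {f : Equiv.Perm α × (α → Fˣ) // Good C f.1 f.2})) ⟨?_, ?_⟩
  · rintro ⟨σ, a⟩ ⟨τ, b⟩ h
    have h' := congrArg Subtype.val h
    simp only [Prod.mk.injEq] at h'
    obtain ⟨h1, h2⟩ := h'
    obtain rfl : σ = τ := Subtype.ext h1
    have := congrFun h2 i₀
    simp only [Pi.mul_apply, mul_left_inj] at this
    rw [this]
  · rintro ⟨⟨σ, c⟩, hc⟩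
    refine ⟨(⟨σ, c, hc⟩, c i₀ / ch ⟨σ, c, hc⟩ i₀), ?_⟩
    ext i
    · rfl
    · have := hk _ (good_div (hch ⟨σ, c, hc⟩) hc) i i₀
      simp only [Pi.div_apply] at this
      simp [← this]

end CfsgLib.SmallCodes
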